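import Mathlib
import Cfsg.Prelude.Def_OddOrderLocal
import Cfsg.Prelude.Def_Local
import Cfsg.Agent.Lib.PSolvable
import Cfsg.Agent.OddOrderLocal.HallPi
import Cfsg.Agent.OddOrderLocal.ComplAux
import Cfsg.Agent.Solvable.Glauberman
set_option linter.all false

/-!
Hall subgroups in groups all of whose chief factors are `σ`-groups or solvable `σ'`-groups
(for instance `σ = p'` and a `p`-soluble group): existence, dominance and conjugacy.
-/

set_option autoImplicit false
set_option linter.unusedSectionVars false

namespace Cfsg.Agent.H442.HallGen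

open Cfsg
open Cfsg.Agent.OddOrderLocal
open scoped Pointwise

universe u

/-- The prime divisors of `n` lie in `σ`. -/
def PN (σ : Set ℕ) (n : ℕ) : Prop := ∀ p : ℕ, p.Prime → p ∣ n → p ∈ σ

/-- The prime divisors of `n` lie outside `σ`. -/
def PN' (σ : Set ℕ) (n : ℕ) : Prop := ∀ p : ℕ, p.Prime → p ∣ n → p ∉ σ

theorem PN.dvd {σ : Set ℕ} {m n : ℕ} (h : PN σ n) (hd : m ∣ n) : PN σ m :=
  fun p hp hm => h p hp (hm.trans hd)

theorem PN'.dvd {σ : Set ℕ} {m n : ℕ} (h : PN' σ n) (hd : m ∣ n) : PN' σ m :=
  fun p hp hm => h p hp (hm.trans hd)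

theorem PN.mul {σ : Set ℕ} {m n : ℕ} (h : PN σ n) (h' : PN σ m) : PN σ (n * m) :=
  fun p hp hm => (hp.dvd_mul.mp hm).elim (h p hp) (h' p hp)

theorem PN'.mul {σ : Set ℕ} {m n : ℕ} (h : PN' σ n) (h' : PN' σ m) : PN' σ (n * m) :=
  fun p hp hm => (hp.dvd_mul.mp hm).elim (h p hp) (h' p hp)

theorem PN.coprime {σ : Set ℕ} {m n : ℕ} (h : PN σ n) (h' : PN' σ m) : n.Coprime m :=
  HallPi.coprime_of_pi h h'

theorem pn_one {σ : Set ℕ} : PN σ 1 := fun _ hp h => absurd (Nat.dvd_one.mp h) hp.one_lt.ne'

theorem pn'_one {σ : Set ℕ} : PN' σ 1 := fun _ hp h => absurd (Nat.dvd_one.mp h) hp.one_lt.ne'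

/-- All chief factors are `σ`-groups or solvable `σ'`-groups. -/
inductive DClass (σ : Set ℕ) : (G : Type u) → [Group G] → Prop
  | triv (G : Type u) [Group G] (h : Subsingleton G) : DClass σ G
  | step (G : Type u) [Group G] (N : Subgroup G) [N.Normal]
      (h : PN σ (Nat.card N) ∨ (PN' σ (Nat.card N) ∧ Group.IsSolvable N))
      (hq : DClass σ (G ⧸ N)) : DClass σ G

/-- A Hall `σ`-subgroup. -/
structure IsHall (σ : Set ℕ) {G : Type u} [Group G] (K : Subgroup G) : Prop where
  card : PN σ (Nat.card K)
  index : PN' σ K.index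

theorem IsHall.card_eq {σ : Set ℕ} {G : Type u} [Group G] [Finite G] {H K : Subgroup G}
    (hH : IsHall σ H) (hK : IsHall σ K) : Nat.card H = Nat.card K := by
  have key : ∀ {H K : Subgroup G}, IsHall σ H → IsHall σ K → Nat.card H ∣ Nat.card K := by
    intro H K hH hK
    have h1 : Nat.card H ∣ Nat.card K * K.index := by
      rw [Subgroup.card_mul_index]; exact Subgroup.card_subgroup_dvd_card H
    exact (hH.card.coprime hK.index).dvd_of_dvd_mul_right h1
  exact Nat.dvd_antisymm (key hH hK) (key hK hH)

theorem map_conj_eq_smul {G : Type*} [Group G] (U : Subgroup G) (g : G) :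
    U.map (MulAut.conj g).toMonoidHom = MulAut.conj g • U := by
  rfl

/-- Dominance. -/
theorem exists_hall {σ : Set ℕ} {G : Type u} [Group G] (h : DClass σ G) : ∀ [Finite G],
    ∃ K : Subgroup G, IsHall σ K ∧
      ∀ U : Subgroup G, PN σ (Nat.card U) → ∃ g : G, U.map (MulAut.conj g).toMonoidHom ≤ K := by
  induction h with
  | triv G h =>
    intro _
    refine ⟨⊤, ⟨?_, ?_⟩, fun U _ => ⟨1, le_top⟩⟩
    · rw [Subgroup.card_top, Nat.card_of_subsingleton (1 : G)]; exact pn_one
    · rw [Subgroup.index_top]; exact pn'_one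
  | step G N h hq ih =>
    intro _
    obtain ⟨Kb, hKb, hdom⟩ := ih
    set H : Subgroup G := Kb.comap (QuotientGroup.mk' N) with hHdef
    have hNH : N ≤ H := by
      intro x hx
      rw [hHdef, Subgroup.mem_comap]
      have : QuotientGroup.mk' N x = 1 := (QuotientGroup.eq_one_iff x).mpr hx
      rw [this]
      exact Kb.one_mem
    have hidx : H.index = Kb.index := by
      rw [hHdef, Subgroup.index_comap_of_surjective _ (QuotientGroup.mk'_surjective N)]
    have hrel : N.relIndex H = Nat.card Kb := by
      rw [← Subgroup.map_comap_eq_self_of_surjective (QuotientGroup.mk'_surjective N) Kb,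
        ← Subgroup.relIndex_ker, QuotientGroup.ker_mk']
    have hdomH : ∀ U : Subgroup G, PN σ (Nat.card U) →
        ∃ g : G, U.map (MulAut.conj g).toMonoidHom ≤ H := by
      intro U hU
      obtain ⟨gb, hgb⟩ := hdom (U.map (QuotientGroup.mk' N)) (hU.dvd (U.card_map_dvd _))
      obtain ⟨g, rfl⟩ := QuotientGroup.mk'_surjective N gb
      refine ⟨g, ?_⟩
      rintro _ ⟨x, hx, rfl⟩
      rw [hHdef, Subgroup.mem_comap]
      apply hgb
      refine ⟨QuotientGroup.mk' N x, ⟨x, hx, rfl⟩, ?_⟩
      simp
    rcases h with h | ⟨h, hs⟩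
    · refine ⟨H, ⟨?_, ?_⟩, hdomH⟩
      · rw [← HallPi.card_mul_relIndex hNH, hrel]
        exact h.mul hKb.card
      · rw [hidx]; exact hKb.index
    · have hnorm : H ≤ Subgroup.normalizer (N : Set G) := by
        rw [Subgroup.normalizer_eq_top]; exact le_top
      obtain ⟨L, hL⟩ := ComplAux.exists_isComplIn hNH hnorm (by
        rw [hrel]; exact (hKb.card.coprime h).symm)
      have hcardL : Nat.card L = Nat.card Kb := by
        rw [← hrel, ComplAux.relIndex_left_of_isComplIn hL]
      refine ⟨L, ⟨?_, ?_⟩, ?_⟩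
      · rw [hcardL]; exact hKb.card
      · rw [← Subgroup.relIndex_mul_index hL.2.1, ComplAux.relIndex_right_of_isComplIn hL, hidx]
        exact h.mul hKb.index
      · intro U hU
        obtain ⟨g, hg⟩ := hdomH U hU
        set V : Subgroup G := U.map (MulAut.conj g).toMonoidHom with hV
        have hVcard : Nat.card V = Nat.card U :=
          Subgroup.card_map_of_injective (MulAut.conj g).injective
        have hVN : V ≤ Subgroup.normalizer (N : Set G) := hg.trans hnorm
        have hcop : (Nat.card V).Coprime (Nat.card N) := by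
          rw [hVcard]; exact hU.coprime h
        set B : Subgroup G := (V ⊔ N) ⊓ L with hB
        have hBN : N ⊓ B = ⊥ := by
          rw [eq_bot_iff, ← hL.2.2.1]
          exact inf_le_inf_left _ inf_le_right
        have hcardB : Nat.card B = Nat.card V := by
          -- both equal the index of `N` in `V ⊔ N`
          have h1 : N.relIndex (V ⊔ N) = N.relIndex V := by
            rw [Subgroup.relIndex_sup_right]
          have h2 : V ⊔ N = B ⊔ N := by
            apply le_antisymm
            · intro x hx
              have hxH : x ∈ H := (sup_le hg hNH) hx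
              obtain ⟨a, ha, b, hb, hab⟩ := hL.2.2.2 x hxH
              rw [hab]
              have hbV : b ∈ V ⊔ N := by
                have : b = a⁻¹ * x := by rw [hab]; group
                rw [this]
                exact mul_mem (inv_mem (Subgroup.mem_sup_right ha)) hx
              exact mul_mem (Subgroup.mem_sup_right ha)
                (Subgroup.mem_sup_left (Subgroup.mem_inf.mpr ⟨hbV, hb⟩))
            · exact sup_le inf_le_left le_sup_right
          have h3 : N.relIndex (B ⊔ N) = N.relIndex B := by
            rw [Subgroup.relIndex_sup_right]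
          have h4 : N.relIndex V = Nat.card V := by
            have hd : N ⊓ V = ⊥ := by
              rw [← Subgroup.card_eq_one]
              exact Nat.eq_one_of_dvd_coprimes hcop (Subgroup.card_dvd_of_le inf_le_right)
                (Subgroup.card_dvd_of_le inf_le_left)
            rw [← Subgroup.inf_relIndex_right, hd, Subgroup.relIndex_bot_left]
          have h5 : N.relIndex B = Nat.card B := by
            rw [← Subgroup.inf_relIndex_right, hBN, Subgroup.relIndex_bot_left]
          rw [← h4, ← h5, ← h1, ← h3, ← h2]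
        obtain ⟨k, hk, hkB⟩ := Cfsg.Agent.Solvable.Glauberman.exists_conj_of_le_sup V N hVN hcop
          (Or.inr hs) B inf_le_left hcardB
        refine ⟨k * g, ?_⟩
        have h6 : U.map (MulAut.conj (k * g)).toMonoidHom = MulAut.conj k • V := by
          rw [hV, map_conj_eq_smul, map_conj_eq_smul, map_mul, mul_smul]
        rw [h6, hkB]
        exact inf_le_right

/-- Each `σ`-subgroup lies in a conjugate of any given Hall `σ`-subgroup. -/
theorem exists_conj_le {σ : Set ℕ} {G : Type u} [Group G] [Finite G] (h : DClass σ G)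
    {H : Subgroup G} (hH : IsHall σ H) {U : Subgroup G} (hU : PN σ (Nat.card U)) :
    ∃ g : G, U.map (MulAut.conj g).toMonoidHom ≤ H := by
  obtain ⟨K, hK, hdom⟩ := exists_hall h
  obtain ⟨a, ha⟩ := hdom H hH.card
  obtain ⟨b, hb⟩ := hdom U hU
  have h1 : H.map (MulAut.conj a).toMonoidHom = K := by
    apply Subgroup.eq_of_le_of_card_ge ha
    rw [Subgroup.card_map_of_injective (MulAut.conj a).injective]
    exact (hK.card_eq hH).le
  refine ⟨a⁻¹ * b, ?_⟩
  rw [map_conj_eq_smul] at h1 hb ⊢
  rw [map_mul, mul_smul, map_inv, Subgroup.pointwise_smul_subset_iff, inv_inv, h1]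
  exact hb

/-- Hall `σ`-subgroups are conjugate. -/
theorem conj_of_isHall {σ : Set ℕ} {G : Type u} [Group G] [Finite G] (h : DClass σ G)
    {H K : Subgroup G} (hH : IsHall σ H) (hK : IsHall σ K) :
    ∃ g : G, H.map (MulAut.conj g).toMonoidHom = K := by
  obtain ⟨g, hg⟩ := exists_conj_le h hK hH.card
  refine ⟨g, Subgroup.eq_of_le_of_card_ge hg ?_⟩
  rw [Subgroup.card_map_of_injective (MulAut.conj g).injective]
  exact (hK.card_eq hH).le

/-- `p`-soluble groups. -/
theorem dclass_of_pSolvable (p : ℕ) [Fact p.Prime] (n : ℕ) : ∀ (G : Type u) [Group G] [Finite G],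
    Nat.card G = n → Cfsg.IsPSolvable p G → DClass {q | q ≠ p} G := by
  induction n using Nat.strong_induction_on with
  | _ n ih =>
    intro G _ _ hn hG
    rcases subsingleton_or_nontrivial G with hs | hs
    · exact DClass.triv G hs
    · obtain ⟨L, hLn, hL, -, hp⟩ := Lib.PSolvable.sep_of_pSolvable p hG ⊥ ⊤ inferInstance
        inferInstance bot_lt_top
      rw [Subgroup.relIndex_bot_left] at hp
      have hlt : Nat.card (G ⧸ L) < n := by
        rw [← hn, ← L.index_mul_card, ← L.index_eq_card]
        exact lt_mul_of_one_lt_right (Nat.pos_of_ne_zero Subgroup.index_ne_zero_of_finite)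
          (L.one_lt_card_iff_ne_bot.mpr hL.ne')
      have hquo := ih _ hlt (G ⧸ L) rfl (Lib.PSolvable.IsPSolvable_of_surjective p hG
        (QuotientGroup.mk' L) (QuotientGroup.mk'_surjective L))
      refine DClass.step G L ?_ hquo
      rcases hp with ⟨m, hm⟩ | hc
      · right
        refine ⟨?_, ?_⟩
        · intro q hq hd
          rw [hm] at hd
          have := (Nat.prime_dvd_prime_iff_eq hq Fact.out).mp (hq.dvd_of_dvd_pow hd)
          simp [this]
        · have : IsPGroup p L := IsPGroup.iff_card.mpr ⟨m, hm⟩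
          have := this.isNilpotent
          infer_instance
      · left
        intro q hq hd
        simp only [Set.mem_ofPred_eq]
        rintro rfl
        exact hq.one_lt.ne' (Nat.eq_one_of_dvd_coprimes hc hd dvd_rfl)

end Cfsg.Agent.H442.HallGen
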