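import Mathlib
import Cfsg.Prelude.Def_Transfer
import Cfsg.Prelude.Def_PLocal
import Cfsg.Prelude.Def_CaseTheorems
import Cfsg.Agent.S0127
import Cfsg.Agent.Lib.DihedralRecog
import Cfsg.Agent.PLocal.ZJ
import Cfsg.Agent.OddOrderLocal.CommProd
set_option linter.all false

/-!
# `p`-groups with a self-centralizing normal cyclic subgroup
-/

set_option autoImplicit false

namespace Cfsg.Agent.H442.CycSelf

open Subgroup

/-- `⟨u⟩` is normal, self-centralizing, of order `p ^ n`. -/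
structure Cyc {G : Type*} [Group G] (p n : ℕ) (u : G) : Prop where
  ord : orderOf u = p ^ n
  act : ∀ g : G, ∃ r : ℤ, g * u * g⁻¹ = u ^ r
  self : ∀ g : G, g * u * g⁻¹ = u → g ∈ zpowers u

variable {G : Type*} [Group G] {p n : ℕ} {u : G}

theorem Cyc.conj_zpow (_h : Cyc p n u) {g : G} {r : ℤ} (hr : g * u * g⁻¹ = u ^ r) (k : ℤ) :
    g * u ^ k * g⁻¹ = u ^ (r * k) := by
  rw [← _root_.conj_zpow, hr, ← zpow_mul]

theorem Cyc.zpow_eq_iff (h : Cyc p n u) (k l : ℤ) : u ^ k = u ^ l ↔ ((p : ℤ) ^ n) ∣ k - l := by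
  rw [← orderOf_dvd_sub_iff_zpow_eq_zpow, h.ord]
  push_cast
  rfl

theorem Cyc.zpow_eq_one_iff (h : Cyc p n u) (k : ℤ) : u ^ k = 1 ↔ ((p : ℤ) ^ n) ∣ k := by
  rw [← orderOf_dvd_iff_zpow_eq_one, h.ord]
  push_cast
  rfl

theorem Cyc.conj_pow (h : Cyc p n u) {g : G} {r : ℤ} (hr : g * u * g⁻¹ = u ^ r) (k : ℕ) :
    g ^ k * u * (g ^ k)⁻¹ = u ^ (r ^ k) := by
  induction k with
  | zero => simp
  | succ k ih =>
    have : g ^ (k + 1) * u * (g ^ (k + 1))⁻¹ = g * (g ^ k * u * (g ^ k)⁻¹) * g⁻¹ := by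
      rw [pow_succ']; group
    rw [this, ih, h.conj_zpow hr, pow_succ']

theorem Cyc.conj_mul (h : Cyc p n u) {g k : G} {r s : ℤ} (hr : g * u * g⁻¹ = u ^ r)
    (hs : k * u * k⁻¹ = u ^ s) : (g * k) * u * (g * k)⁻¹ = u ^ (r * s) := by
  have : (g * k) * u * (g * k)⁻¹ = g * (k * u * k⁻¹) * g⁻¹ := by group
  rw [this, hs, h.conj_zpow hr]

theorem Cyc.mem_of_dvd (h : Cyc p n u) {g : G} {r : ℤ} (hr : g * u * g⁻¹ = u ^ r)
    (hd : (p : ℤ) ^ n ∣ r - 1) : g ∈ zpowers u := by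
  apply h.self
  rw [hr, (h.zpow_eq_iff r 1).mpr hd, zpow_one]

theorem Cyc.dvd_of_mem (h : Cyc p n u) {g : G} {r : ℤ} (hr : g * u * g⁻¹ = u ^ r)
    (hg : g ∈ zpowers u) : (p : ℤ) ^ n ∣ r - 1 := by
  obtain ⟨k, rfl⟩ := hg
  apply (h.zpow_eq_iff r 1).mp
  rw [← hr, zpow_one]
  dsimp only
  rw [← zpow_add_one, ← zpow_neg, ← zpow_add]
  conv_rhs => rw [← zpow_one u]
  congr 1
  ring

/-- An element outside `⟨u⟩` has a power outside `⟨u⟩` whose `p`-th power lies in `⟨u⟩`. -/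
theorem exists_pow (hG : IsPGroup p G) {g : G} (hg : g ∉ zpowers u) :
    ∃ k : ℕ, g ^ p ^ k ∉ zpowers u ∧ (g ^ p ^ k) ^ p ∈ zpowers u := by
  classical
  have hex : ∃ k : ℕ, g ^ p ^ k ∈ zpowers u := by
    obtain ⟨k, hk⟩ := hG g
    exact ⟨k, by rw [hk]; exact one_mem _⟩
  obtain ⟨m, hm⟩ : ∃ m, Nat.find hex = m + 1 := by
    apply Nat.exists_eq_succ_of_ne_zero
    intro h0
    have := Nat.find_spec hex
    rw [h0, pow_zero, pow_one] at this
    exact hg this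
  refine ⟨m, Nat.find_min hex (by omega), ?_⟩
  have := Nat.find_spec hex
  rw [hm, pow_succ, pow_mul] at this
  exact this

/-- If `g ^ p ∈ ⟨u⟩` and `p` is odd (or `r ≡ 1` mod 4 for `p = 2`), then `g` centralizes `u ^ p`. -/
theorem Cyc.comm_of_pow [hp : Fact p.Prime] (h : Cyc p n u) (hn : 1 ≤ n) {g : G} {r : ℤ}
    (hr : g * u * g⁻¹ = u ^ r) (hg : g ^ p ∈ zpowers u) (hodd : p ≠ 2 ∨ (4 : ℤ) ∣ r - 1) :
    (p : ℤ) ^ n ∣ p * (r - 1) := by
  have h1 : (p : ℤ) ^ n ∣ r ^ p - 1 := h.dvd_of_mem (h.conj_pow hr p) hg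
  by_cases hp2 : p = 2
  · subst hp2
    have h4 := hodd.resolve_left (by simp)
    obtain ⟨m, hm⟩ := h4
    have h2 : (r ^ 2 - 1 : ℤ) = (2 * (r - 1)) * (2 * m + 1) := by
      have : r = 4 * m + 1 := by linarith
      rw [this]; ring
    rw [h2] at h1
    have hcop : IsCoprime ((2 : ℕ) : ℤ) (2 * m + 1) := ⟨-m, 1, by push_cast; ring⟩
    exact (hcop.pow_left (m := n)).dvd_of_dvd_mul_right h1
  · exact (Cfsg.Agent.S0127.arith hp.out hp2 hn h1).2

theorem Cyc.odd_exp (h : Cyc 2 n u) (hn : 1 ≤ n) {g : G} {r : ℤ}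
    (hr : g * u * g⁻¹ = u ^ r) : ¬ (2 : ℤ) ∣ r := by
  rintro ⟨m, rfl⟩
  have h1 : g * u ^ ((2 : ℤ) ^ (n - 1)) * g⁻¹ = u ^ (2 * m * (2 : ℤ) ^ (n - 1)) :=
    h.conj_zpow hr _
  have h2 : u ^ (2 * m * (2 : ℤ) ^ (n - 1)) = 1 := by
    rw [h.zpow_eq_one_iff]
    refine ⟨m, ?_⟩
    obtain ⟨k, rfl⟩ := Nat.exists_eq_add_of_le' hn
    simp only [Nat.add_sub_cancel]
    push_cast
    ring
  rw [h2] at h1
  have h3 : u ^ ((2 : ℤ) ^ (n - 1)) = 1 := by
    have := congrArg (fun x => g⁻¹ * x * g) h1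
    simpa [mul_assoc] using this
  rw [h.zpow_eq_one_iff] at h3
  obtain ⟨k, rfl⟩ := Nat.exists_eq_add_of_le' hn
  simp only [Nat.add_sub_cancel] at h3
  push_cast at h3
  have h4 : (0 : ℤ) < 2 ^ k := by positivity
  have h5 := Int.le_of_dvd h4 h3
  rw [pow_succ] at h5
  linarith

theorem Cyc.index_two (h : Cyc 2 n u) (hn : 2 ≤ n)
    (hM : ∀ (g : G) (r : ℤ), g * u * g⁻¹ = u ^ r → (4 : ℤ) ∣ r - 1 → g ∈ zpowers u)
    {y : G} (hy : y ∉ zpowers u) : (zpowers u).index = 2 := by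
  have h3 : ∀ (g : G) (r : ℤ), g ∉ zpowers u → g * u * g⁻¹ = u ^ r → r % 4 = 3 := by
    intro g r hg hr
    have h1 := h.odd_exp (by omega) hr
    have h2 : ¬ (4 : ℤ) ∣ r - 1 := fun h0 => hg (hM g r hr h0)
    omega
  rw [Subgroup.index_eq_two_iff]
  refine ⟨y, fun b => ?_⟩
  by_cases hb : b ∈ zpowers u
  · right
    refine ⟨hb, fun h0 => hy ?_⟩
    exact (Subgroup.mul_mem_cancel_left _ hb).mp h0
  · left
    refine ⟨?_, hb⟩
    obtain ⟨r, hr⟩ := h.act y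
    obtain ⟨s, hs⟩ := h.act b
    have e1 := h3 y r hy hr
    have e2 := h3 b s hb hs
    apply hM _ _ (h.conj_mul hs hr)
    have e3 : (s * r) % 4 = 1 := by rw [Int.mul_emod, e1, e2]; rfl
    omega

theorem Cyc.two_case [Finite G] (h : Cyc 2 n u) (hn : 2 ≤ n)
    (hM : ∀ (g : G) (r : ℤ), g * u * g⁻¹ = u ^ r → (4 : ℤ) ∣ r - 1 → g ∈ zpowers u)
    {y : G} (hy : y ∉ zpowers u) :
    Nat.card G = 2 ^ (n + 1) ∧ ((∃ m : ℕ, Nonempty (G ≃* DihedralGroup m)) ∨
      (∃ m : ℕ, Nonempty (G ≃* QuaternionGroup m)) ∨ Cfsg.IsQuasiDihedral G) := by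
  have hidx := h.index_two hn hM hy
  have hcard : Nat.card G = 2 ^ (n + 1) := by
    rw [← (zpowers u).card_mul_index, hidx, Nat.card_zpowers, h.ord, pow_succ]
  refine ⟨hcard, ?_⟩
  obtain ⟨r, hr⟩ := h.act y
  have hr3 : r % 4 = 3 := by
    have h1 := h.odd_exp (by omega) hr
    have h2 : ¬ (4 : ℤ) ∣ r - 1 := fun h0 => hy (hM y r hr h0)
    omega
  obtain ⟨m, hm⟩ : ∃ m : ℤ, r - 1 = 2 * (2 * m + 1) := ⟨(r - 3) / 4, by omega⟩
  have hcop : IsCoprime ((2 : ℤ) ^ n) (2 * m + 1) :=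
    IsCoprime.pow_left ⟨-m, 1, by ring⟩
  have hy2 : y ^ 2 ∈ zpowers u := by
    have := Subgroup.sq_mem_of_index_two hidx y
    exact this
  -- the square of `y`
  obtain ⟨k, hk⟩ := hy2
  have hk : u ^ k = y ^ 2 := hk
  have hk2 : (2 : ℤ) ^ n ∣ 2 * k := by
    have h1 := h.conj_zpow hr k
    rw [hk] at h1
    have h2 : y * y ^ 2 * y⁻¹ = y ^ 2 := by group
    rw [h2, ← hk, h.zpow_eq_iff] at h1
    have h3 : k - r * k = -((2 * k) * (2 * m + 1)) := by
      have : r = 2 * (2 * m + 1) + 1 := by linarith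
      rw [this]; ring
    rw [h3, dvd_neg] at h1
    exact_mod_cast hcop.dvd_of_dvd_mul_right h1
  have hr2 : (2 : ℤ) ^ n ∣ 2 * (r + 1) := by
    have h1 := h.dvd_of_mem (h.conj_pow hr 2) ⟨k, hk⟩
    have h2 : (r ^ 2 - 1 : ℤ) = (2 * (r + 1)) * (2 * m + 1) := by
      have : r = 2 * (2 * m + 1) + 1 := by linarith
      rw [this]; ring
    rw [h2] at h1
    exact_mod_cast hcop.dvd_of_dvd_mul_right h1
  obtain ⟨l, rfl⟩ := Nat.exists_eq_add_of_le' hn
  -- halves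
  have half : ∀ a : ℤ, (2 : ℤ) ^ (l + 2) ∣ 2 * a → ¬ (2 : ℤ) ^ (l + 2) ∣ a →
      (2 : ℤ) ^ (l + 2) ∣ a - 2 ^ (l + 1) := by
    intro a ha hna
    obtain ⟨c, hc⟩ := ha
    have hc' : a = 2 ^ (l + 1) * c := by
      have : (2 : ℤ) * a = 2 * (2 ^ (l + 1) * c) := by rw [hc]; ring
      linarith
    have hodd : ¬ (2 : ℤ) ∣ c := by
      rintro ⟨d, rfl⟩
      exact hna ⟨d, by rw [hc']; ring⟩
    obtain ⟨d, hd⟩ : ∃ d, c = 2 * d + 1 := ⟨c / 2, by omega⟩
    exact ⟨d, by rw [hc', hd]; ring⟩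
  have hord : orderOf u = 2 ^ (l + 2) := h.ord
  have hz : y ^ 2 ≠ 1 → y ^ 2 = u ^ ((2 : ℤ) ^ (l + 1)) := by
    intro hne
    rw [← hk, h.zpow_eq_iff]
    exact_mod_cast half k hk2 (fun h0 => hne (by
      rw [← hk]
      exact (h.zpow_eq_one_iff k).mpr (by exact_mod_cast h0)))
  have hnpow : u ^ ((2 : ℤ) ^ (l + 1)) = u ^ (2 ^ (l + 1)) := by
    rw [← zpow_natCast]; congr 1
  by_cases hr1 : (2 : ℤ) ^ (l + 2) ∣ r + 1
  · have hinv : y * u * y⁻¹ = u⁻¹ := by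
      rw [hr, ← zpow_neg_one, h.zpow_eq_iff]
      exact_mod_cast hr1
    by_cases hy1 : y ^ 2 = 1
    · left
      refine ⟨2 ^ (l + 2), ?_⟩
      exact Cfsg.Agent.Lib.DihedralRecog.dihedral_of_generators (by positivity) u y hord
        (by rw [← sq]; exact hy1) hinv hy (by rw [hcard]; ring)
    · right; left
      refine ⟨2 ^ (l + 1), ?_⟩
      exact Cfsg.Agent.Lib.DihedralRecog.quaternion_of_generators (by positivity) u y
        (by rw [hord]; ring) (by rw [← sq, hz hy1, hnpow]) hinv hy (by rw [hcard]; ring)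
  · right; right
    have hr4 := half (r + 1) hr2 hr1
    have hl : 1 ≤ l := by
      by_contra h0
      have : l = 0 := by omega
      subst this
      apply hr1
      norm_num
      omega
    have hact : y * u * y⁻¹ = u ^ (2 ^ (l + 1) - 1) := by
      have h1 : u ^ (2 ^ (l + 1) - 1) = u ^ ((2 : ℤ) ^ (l + 1) - 1) := by
        rw [← zpow_natCast, Nat.cast_sub (Nat.one_le_two_pow)]
        push_cast
        rfl
      rw [hr, h1, h.zpow_eq_iff]
      have h2 : r - (2 ^ (l + 1) - 1) = r + 1 - 2 ^ (l + 1) := by ring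
      rw [h2]
      exact_mod_cast hr4
    refine ⟨l + 2, by omega, hcard, ?_⟩
    by_cases hy1 : y ^ 2 = 1
    · refine ⟨u, y, hord, ?_, ?_⟩
      · exact orderOf_eq_prime hy1 (fun h0 => hy (by rw [h0]; exact one_mem _))
      · exact hact
    · refine ⟨u, u * y, hord, ?_, ?_⟩
      · apply orderOf_eq_prime
        · have h1 : (u * y) ^ 2 = u * (y * u * y⁻¹) * y ^ 2 := by
            rw [sq, sq]; group
          rw [h1, hact, hz hy1, hnpow, ← pow_succ', ← pow_add]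
          have h2 : 2 ^ (l + 1) - 1 + 1 + 2 ^ (l + 1) = 2 ^ (l + 2) := by
            have : 1 ≤ 2 ^ (l + 1) := Nat.one_le_two_pow
            rw [Nat.sub_add_cancel this]; ring
          rw [h2, ← hord, pow_orderOf_eq_one]
        · intro h0
          apply hy
          have : y = u⁻¹ := by
            rw [eq_comm, inv_eq_iff_mul_eq_one]; exact h0
          rw [this]
          exact inv_mem (mem_zpowers u)
      · have h1 : u * y * u * (u * y)⁻¹ = u * (y * u * y⁻¹) * u⁻¹ := by group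
        rw [h1, hact]
        have : l + 2 - 1 = l + 1 := rfl
        rw [this]
        rw [mul_inv_eq_iff_eq_mul, ← pow_succ, ← pow_succ']

/-! ### The centralizer `M` of `u ^ p` -/

theorem Cyc.mem_M_iff (h : Cyc p n u) {M : Subgroup G}
    (hM : ∀ g : G, g ∈ M ↔ g * u ^ p * g⁻¹ = u ^ p) {g : G} {r : ℤ} (hr : g * u * g⁻¹ = u ^ r) :
    g ∈ M ↔ (p : ℤ) ^ n ∣ p * (r - 1) := by
  have h1 := h.conj_zpow hr p
  have h2 : u ^ (p : ℤ) = u ^ p := zpow_natCast u p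
  rw [h2] at h1
  rw [hM, h1, ← h2, h.zpow_eq_iff]
  have : r * p - p = p * (r - 1) := by ring
  rw [this]

theorem Cyc.zpowers_le_M {M : Subgroup G} (_h : Cyc p n u)
    (hM : ∀ g : G, g ∈ M ↔ g * u ^ p * g⁻¹ = u ^ p) : zpowers u ≤ M := by
  rw [zpowers_le, hM]
  group

theorem Cyc.relIndex [hp : Fact p.Prime] [Finite G] (h : Cyc p n u) (hn : 2 ≤ n) {M : Subgroup G}
    (hM : ∀ g : G, g ∈ M ↔ g * u ^ p * g⁻¹ = u ^ p) : (zpowers u).relIndex M ∣ p := by
  obtain ⟨l, rfl⟩ := Nat.exists_eq_add_of_le' hn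
  set w : G := u ^ p ^ (l + 1) with hw
  have hwp : w ^ p = 1 := by
    rw [hw, ← pow_mul, ← pow_succ, ← h.ord, pow_orderOf_eq_one]
  have hwM : ∀ g ∈ M, ∀ x ∈ zpowers w, g * x * g⁻¹ = x := by
    intro g hg x hx
    obtain ⟨k, rfl⟩ := hx
    have h1 : w = (u ^ p) ^ (p ^ l) := by rw [hw, ← pow_mul, ← pow_succ']
    dsimp only
    rw [← _root_.conj_zpow, h1, ← _root_.conj_pow, (hM g).mp hg]
  have hcomm : ∀ g ∈ M, g * u * g⁻¹ * u⁻¹ ∈ zpowers w := by
    intro g hg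
    obtain ⟨r, hr⟩ := h.act g
    rw [h.mem_M_iff hM hr] at hg
    obtain ⟨c, hc⟩ := hg
    have hp0 : (p : ℤ) ≠ 0 := by exact_mod_cast hp.out.ne_zero
    have hr1 : r - 1 = p ^ (l + 1) * c := by
      apply mul_left_cancel₀ hp0
      rw [hc]; ring
    refine ⟨c, ?_⟩
    dsimp only
    rw [hr, hw, ← zpow_natCast u (p ^ (l + 1)), ← zpow_mul, ← zpow_sub_one, hr1]
    push_cast
    rfl
  let f : M →* G :=
    { toFun := fun g => (g : G) * u * (g : G)⁻¹ * u⁻¹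
      map_one' := by simp
      map_mul' := by
        intro a b
        have h1 := hwM a a.2 _ (hcomm b b.2)
        have h2 : Commute ((b : G) * u * (b : G)⁻¹ * u⁻¹) ((a : G) * u * (a : G)⁻¹ * u⁻¹) := by
          obtain ⟨i, hi⟩ := hcomm b b.2
          obtain ⟨j, hj⟩ := hcomm a a.2
          rw [← hi, ← hj]
          exact ((Commute.refl w).zpow_left i).zpow_right j
        calc ((a * b : M) : G) * u * ((a * b : M) : G)⁻¹ * u⁻¹
            = ((a : G) * ((b : G) * u * (b : G)⁻¹ * u⁻¹) * (a : G)⁻¹) *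
              ((a : G) * u * (a : G)⁻¹ * u⁻¹) := by
              rw [Subgroup.coe_mul]; group
          _ = ((b : G) * u * (b : G)⁻¹ * u⁻¹) * ((a : G) * u * (a : G)⁻¹ * u⁻¹) := by rw [h1]
          _ = _ := h2.eq }
  have hker : (zpowers u).subgroupOf M = f.ker := by
    ext g
    rw [mem_subgroupOf, MonoidHom.mem_ker]
    constructor
    · rintro ⟨k, hk⟩
      change (g : G) * u * (g : G)⁻¹ * u⁻¹ = 1
      rw [← hk]
      group
    · intro hg
      apply h.self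
      exact mul_inv_eq_one.mp hg
  have hrange : f.range ≤ zpowers w := by
    rintro _ ⟨g, rfl⟩
    exact hcomm g g.2
  rw [Subgroup.relIndex, hker, Subgroup.index_ker]
  refine (card_dvd_of_le hrange).trans ?_
  rw [Nat.card_zpowers]
  exact orderOf_dvd_of_pow_eq_one hwp

theorem Cyc.omega_two [Finite G] (h : Cyc 2 n u) (hn : 3 ≤ n) {M : Subgroup G}
    (hM : ∀ g : G, g ∈ M ↔ g * u ^ 2 * g⁻¹ = u ^ 2) {y : G} (hyM : y ∈ M)
    (hy : y ∉ zpowers u) :
    Cfsg.IsElementaryAbelian 2 (Cfsg.omegaOne 2 M) ∧ Nat.card ↥(Cfsg.omegaOne 2 M) = 2 ^ 2 := by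
  obtain ⟨l, rfl⟩ := Nat.exists_eq_add_of_le' hn
  have hexp : ∀ g : G, g ∈ M → g ∉ zpowers u → g * u * g⁻¹ = u ^ (1 + 2 ^ (l + 2) : ℤ) := by
    intro g hg hgu
    obtain ⟨r, hr⟩ := h.act g
    rw [h.mem_M_iff hM hr] at hg
    obtain ⟨c, hc⟩ := hg
    have hr1 : r - 1 = 2 ^ (l + 2) * c := by
      have : (2 : ℤ) * (r - 1) = 2 * (2 ^ (l + 2) * c) := by
        push_cast at hc
        rw [hc]; ring
      linarith
    have hodd : ¬ (2 : ℤ) ∣ c := by
      rintro ⟨d, rfl⟩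
      apply hgu
      apply h.mem_of_dvd hr
      rw [hr1]
      push_cast
      exact ⟨d, by ring⟩
    obtain ⟨d, hd⟩ : ∃ d, c = 2 * d + 1 := ⟨c / 2, by omega⟩
    rw [hr, h.zpow_eq_iff]
    push_cast
    refine ⟨d, ?_⟩
    have : r = 1 + 2 ^ (l + 2) * c := by linarith
    rw [this, hd]
    ring
  -- `M` is the union of `⟨u⟩` and `⟨u⟩ y`
  have hcoset : ∀ g : G, g ∈ M → g ∉ zpowers u → ∀ b ∈ M, b ∉ zpowers u → g * b⁻¹ ∈ zpowers u := by
    intro g hg hgu b hb hbu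
    apply h.self
    have h1 := hexp g hg hgu
    have h2 := hexp b hb hbu
    have h3 : b⁻¹ * u ^ (1 + 2 ^ (l + 2) : ℤ) * b = u := by rw [← h2]; group
    have h4 : b⁻¹ * u * b = u ^ (1 + 2 ^ (l + 2) : ℤ) := by
      obtain ⟨s, hs⟩ := h.act b⁻¹
      rw [inv_inv] at hs
      have h5 := hexp b⁻¹ (inv_mem hb) (fun h0 => hbu (by simpa using inv_mem h0))
      rw [inv_inv] at h5
      exact h5
    calc g * b⁻¹ * u * (g * b⁻¹)⁻¹ = g * (b⁻¹ * u * b) * g⁻¹ := by group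
      _ = g * (u ^ (1 + 2 ^ (l + 2) : ℤ)) * g⁻¹ := by rw [h4]
      _ = u ^ ((1 + 2 ^ (l + 2) : ℤ) * (1 + 2 ^ (l + 2))) := h.conj_zpow h1 _
      _ = u := by
        conv_rhs => rw [← zpow_one u]
        rw [h.zpow_eq_iff]
        refine ⟨1 + 2 ^ (l + 1), ?_⟩
        push_cast
        ring
  have hzM : zpowers u ≤ M := h.zpowers_le_M hM
  -- an involution outside `⟨u⟩`
  obtain ⟨c', hc'⟩ : ∃ c' d : ℤ, c' * (1 + 2 ^ (l + 1)) + d * 2 ^ (l + 3) = 1 := by
    have : IsCoprime (1 + 2 ^ (l + 1) : ℤ) (2 ^ (l + 3)) := by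
      apply IsCoprime.pow_right
      refine ⟨1, -2 ^ l, by ring⟩
    obtain ⟨a, b, hab⟩ := this
    exact ⟨a, b, hab⟩
  obtain ⟨d', hc'⟩ := hc'
  have hsq : ∀ (g : G) (i : ℤ), g ∈ M → g ∉ zpowers u →
      (u ^ i * g) ^ 2 = u ^ (2 * i * (1 + 2 ^ (l + 1))) * g ^ 2 := by
    intro g i hg hgu
    have h1 := h.conj_zpow (hexp g hg hgu) i
    have h2 : (u ^ i * g) ^ 2 = u ^ i * (g * u ^ i * g⁻¹) * g ^ 2 := by
      rw [sq, sq]; group
    rw [h2, h1, ← zpow_add]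
    congr 2
    ring
  have hy2 : ∃ k : ℤ, u ^ (2 * k) = y ^ 2 := by
    have h1 : y ^ 2 ∈ zpowers u := by
      have := hcoset y hyM hy y⁻¹ (inv_mem hyM) (fun h0 => hy (by simpa using inv_mem h0))
      rw [inv_inv] at this
      rw [sq]; exact this
    obtain ⟨k, hk⟩ := h1
    have hk : u ^ k = y ^ 2 := hk
    have h2 := h.conj_zpow (hexp y hyM hy) k
    rw [hk] at h2
    have h3 : y * y ^ 2 * y⁻¹ = y ^ 2 := by group
    rw [h3, ← hk, h.zpow_eq_iff] at h2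
    have h4 : k - (1 + 2 ^ (l + 2)) * k = -(2 ^ (l + 2) * k) := by ring
    rw [h4, dvd_neg] at h2
    have h5 : (2 : ℤ) ∣ k := by
      obtain ⟨e, he⟩ := h2
      push_cast at he
      refine ⟨e, ?_⟩
      have h6 : (2 : ℤ) ^ (l + 2) * k = 2 ^ (l + 2) * (2 * e) := by rw [he]; ring
      exact mul_left_cancel₀ (by positivity) h6
    obtain ⟨k', rfl⟩ := h5
    exact ⟨k', hk⟩
  obtain ⟨k, hk⟩ := hy2
  obtain ⟨b, hbM, hbu, hb2⟩ : ∃ b, b ∈ M ∧ b ∉ zpowers u ∧ b ^ 2 = 1 := by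
    refine ⟨u ^ (-(c' * k)) * y, mul_mem (zpow_mem (hzM (mem_zpowers u)) _) hyM, ?_, ?_⟩
    · intro h0
      apply hy
      exact (Subgroup.mul_mem_cancel_left _ (zpow_mem (mem_zpowers u) _)).mp h0
    · rw [hsq y _ hyM hy, ← hk, ← zpow_add, h.zpow_eq_one_iff]
      push_cast
      refine ⟨2 * k * d', ?_⟩
      linear_combination (-2 * k) * hc'
  set z : G := u ^ (2 ^ (l + 2)) with hz
  have hzz : u ^ ((2 : ℤ) ^ (l + 2)) = z := by
    rw [hz, ← zpow_natCast]; congr 1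
  have hz2 : z ^ 2 = 1 := by
    rw [hz, ← pow_mul, ← pow_succ, ← h.ord, pow_orderOf_eq_one]
  have hz1 : z ≠ 1 := by
    intro h0
    have := orderOf_dvd_of_pow_eq_one h0
    rw [h.ord] at this
    have := Nat.le_of_dvd (by positivity) this
    have h1 : 2 ^ (l + 3) = 2 * 2 ^ (l + 2) := by ring
    have h2 : 0 < 2 ^ (l + 2) := by positivity
    omega
  have hzu : z ∈ zpowers u := pow_mem (mem_zpowers u) _
  -- small powers
  have hsmall : ∀ i : ℤ, (2 : ℤ) ^ (l + 3) ∣ 2 * i * (1 + 2 ^ (l + 1)) → u ^ i ∈ zpowers z := by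
    intro i hi
    have h1 : IsCoprime ((2 : ℤ) ^ (l + 3)) (1 + 2 ^ (l + 1)) := by
      apply IsCoprime.pow_left
      refine ⟨-2 ^ l, 1, by ring⟩
    obtain ⟨e, he⟩ := h1.dvd_of_dvd_mul_right hi
    have h2 : i = 2 ^ (l + 2) * e := by
      have : (2 : ℤ) * i = 2 * (2 ^ (l + 2) * e) := by rw [he]; ring
      linarith
    refine ⟨e, ?_⟩
    dsimp only
    rw [h2, zpow_mul, hzz]
  have hbz : z * b = b * z := by
    have h1 := h.conj_zpow (hexp b hbM hbu) ((2 : ℤ) ^ (l + 2))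
    rw [hzz] at h1
    have h2 : u ^ ((1 + 2 ^ (l + 2)) * (2 : ℤ) ^ (l + 2)) = z := by
      rw [← hzz, h.zpow_eq_iff]
      push_cast
      exact ⟨2 ^ (l + 1), by ring⟩
    rw [h2] at h1
    exact (mul_inv_eq_iff_eq_mul.mp h1).symm
  have hel := Cfsg.Agent.PLocal.ZJ.isElementaryAbelian_sup_zpowers (e := 2) (A := zpowers z)
    (z := b) ⟨inferInstance, by
      rintro _ ⟨i, rfl⟩
      dsimp only
      rw [← zpow_natCast, ← zpow_mul, mul_comm, zpow_mul, zpow_natCast, hz2, one_zpow]⟩ hb2 (by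
      rintro _ ⟨i, rfl⟩
      exact ((show Commute z b from hbz).zpow_left i).eq)
  have hsup : Cfsg.omegaOne 2 M = zpowers z ⊔ zpowers b := by
    apply le_antisymm
    · unfold Cfsg.omegaOne
      rw [closure_le]
      rintro x ⟨hxM, hx2⟩
      by_cases hxu : x ∈ zpowers u
      · obtain ⟨i, rfl⟩ := hxu
        have hx2' : u ^ i ^ 1 = u ^ i := by simp
        have h1 : u ^ (i * 2) = 1 := by
          rw [zpow_mul]; exact_mod_cast hx2
        rw [h.zpow_eq_one_iff] at h1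
        push_cast at h1
        exact (le_sup_left : zpowers z ≤ _) (hsmall i (by
          rw [mul_comm 2 i]; exact Dvd.dvd.mul_right h1 _))
      · have h1 := hcoset x hxM hxu b hbM hbu
        obtain ⟨i, hi⟩ := h1
        have hi : u ^ i = x * b⁻¹ := hi
        have hxb : x = u ^ i * b := by rw [hi]; group
        have h2 := hsq b i hbM hbu
        rw [← hxb, hx2, hb2, mul_one] at h2
        have h3 := (h.zpow_eq_one_iff _).mp h2.symm
        push_cast at h3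
        rw [hxb]
        exact mul_mem ((le_sup_left : zpowers z ≤ _) (hsmall i h3))
          ((le_sup_right : zpowers b ≤ zpowers z ⊔ zpowers b) (mem_zpowers b))
    · rw [sup_le_iff, zpowers_le, zpowers_le]
      exact ⟨subset_closure ⟨hzM hzu, hz2⟩, subset_closure ⟨hbM, hb2⟩⟩
  rw [hsup]
  refine ⟨hel, ?_⟩
  have hzo : Nat.card (zpowers z) = 2 := by rw [Nat.card_zpowers, orderOf_eq_prime hz2 hz1]
  have hbo : Nat.card (zpowers b) = 2 := by
    rw [Nat.card_zpowers, orderOf_eq_prime hb2 (fun h0 => hbu (by rw [h0]; exact one_mem _))]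
  have hdisj : Disjoint (zpowers z) (zpowers b) := by
    rw [Subgroup.disjoint_def]
    intro x hxz hxb
    obtain ⟨i, rfl⟩ := hxb
    by_contra hne
    apply hbu
    have h1 : b ^ i ∈ zpowers u := (zpowers_le.mpr hzu) hxz
    rcases Int.even_or_odd i with ⟨j, hj⟩ | ⟨j, hj⟩
    · exfalso
      apply hne
      dsimp only
      rw [hj, ← two_mul, zpow_mul]
      have : b ^ (2 : ℤ) = 1 := by exact_mod_cast hb2
      rw [this, one_zpow]
    · have h2 : b ^ i = b := by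
        rw [hj, zpow_add, zpow_mul]
        have : b ^ (2 : ℤ) = 1 := by exact_mod_cast hb2
        rw [this, one_zpow, one_mul, zpow_one]
      rwa [h2] at h1
  have hcomm := hel.1
  have hmul := Cfsg.Agent.OddOrderLocal.CommProd.card_sup_of_comm (H := zpowers z)
    (K := zpowers b) (fun x hx y hy => by
      obtain ⟨i, rfl⟩ := hx
      obtain ⟨j, rfl⟩ := hy
      exact (((show Commute z b from hbz).zpow_left i).zpow_right j).eq)
    (disjoint_iff.mp hdisj)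
  rw [hmul, hzo, hbo]
  rfl

theorem Cyc.omega_odd [hp : Fact p.Prime] [Finite G] (hG : IsPGroup p G) (h : Cyc p n u)
    (hn : 2 ≤ n) (hp2 : p ≠ 2) {M : Subgroup G}
    (hM : ∀ g : G, g ∈ M ↔ g * u ^ p * g⁻¹ = u ^ p) {y : G} (hyM : y ∈ M)
    (hy : y ∉ zpowers u) :
    Cfsg.IsElementaryAbelian p (Cfsg.omegaOne p M) ∧ Nat.card ↥(Cfsg.omegaOne p M) = p ^ 2 := by
  have hUM := h.zpowers_le_M hM
  have hidx : (zpowers u).relIndex M = p := by
    rcases (Nat.dvd_prime hp.out).mp (h.relIndex hn hM) with h1 | h1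
    · exact absurd (Subgroup.relIndex_eq_one.mp h1 hyM) hy
    · exact h1
  have hnc : ¬ IsCyclic M := by
    intro hc
    have hcm : IsMulCommutative M := hc.isMulCommutative
    apply hy
    apply h.self
    have h1 := congrArg Subtype.val (hcm.is_comm.comm (⟨y, hyM⟩ : M) ⟨u, hUM (mem_zpowers u)⟩)
    have h1 : y * u = u * y := h1
    rw [h1]; group
  have hcyc : IsCyclic ((zpowers u).subgroupOf M) := by
    have e := (subgroupOfEquivOfLe hUM)
    exact isCyclic_of_injective e.toMonoidHom e.injective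
  obtain ⟨h1, h2⟩ := Cfsg.Agent.S0127.result hp2 (hG.to_subgroup M) hnc
    ((zpowers u).subgroupOf M) hcyc hidx
  have hmap : (closure {x : M | x ^ p = 1}).map M.subtype = Cfsg.omegaOne p M := by
    rw [MonoidHom.map_closure]
    unfold Cfsg.omegaOne
    congr 1
    ext x
    constructor
    · rintro ⟨y, hy, rfl⟩
      exact ⟨y.2, by simpa using congrArg Subtype.val hy⟩
    · rintro ⟨hx, hxp⟩
      exact ⟨⟨x, hx⟩, Subtype.ext hxp, rfl⟩
  rw [← hmap]
  refine ⟨⟨?_, ?_⟩, ?_⟩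
  · have := h1.1
    infer_instance
  · rintro _ ⟨x, hx, rfl⟩
    rw [← map_pow, h1.2 x hx, map_one]
  · rw [← h2]
    exact Nat.card_congr
      ((closure {x : M | x ^ p = 1}).equivMapOfInjective _ (Subgroup.subtype_injective _)).symm.toEquiv

end Cfsg.Agent.H442.CycSelf
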