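import Mathlib
import Cfsg.Prelude.Def_Transfer
import Cfsg.Prelude.Def_CaseTheorems
import Cfsg.Agent.Transfer.ExtraspecialTwo
import Cfsg.Agent.PLocal.ZJ
set_option linter.all false

/-!
# The rank of an extraspecial 2-group and its isomorphism type
-/

set_option autoImplicit false

namespace Cfsg.Agent.H442.ExtraRank

open Subgroup
open scoped commutatorElement
open Cfsg.Agent.Transfer.ExtraspecialTwo

variable {E : Type*} [Group E]

theorem comm_of {A : Subgroup E} (hA : IsMulCommutative A) {x y : E} (hx : x ∈ A) (hy : y ∈ A) :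
    x * y = y * x := congrArg Subtype.val (hA.is_comm.comm ⟨x, hx⟩ ⟨y, hy⟩)

/-- Adjoining a commuting involution doubles the order at least. -/
theorem two_mul_card_le [Finite E] {A : Subgroup E} {a : E} (haA : a ∉ A) :
    2 * Nat.card A ≤ Nat.card ↥(A ⊔ zpowers a) := by
  have hlt : A < A ⊔ zpowers a := by
    refine lt_of_le_of_ne le_sup_left ?_
    intro h
    apply haA
    rw [h]
    exact (le_sup_right : zpowers a ≤ A ⊔ zpowers a) (mem_zpowers a)
  obtain ⟨k, hk⟩ := card_dvd_of_le hlt.le
  have hpos : 0 < Nat.card A := Nat.card_pos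
  have hne : k ≠ 1 := by
    rintro rfl
    rw [mul_one] at hk
    exact hlt.ne (eq_of_le_of_card_ge hlt.le hk.le)
  have hk0 : k ≠ 0 := by
    rintro rfl
    rw [mul_zero] at hk
    exact Nat.card_pos.ne' hk
  have : 2 ≤ k := by omega
  rw [hk, mul_comm]
  exact Nat.mul_le_mul le_rfl this

/-- The centralizer of an element has index at most two in any subgroup. -/
theorem card_le_two_mul [Finite E] (h : CentralTwo E) {a b : E} (hab : ⁅a, b⁆ ≠ 1)
    (A : Subgroup E) (x : E) :
    Nat.card A ≤ 2 * Nat.card ↥(A ⊓ Subgroup.centralizer ({x} : Set E)) := by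
  have hker : (Subgroup.centralizer ({x} : Set E)) =
      (Cfsg.Agent.Transfer.Extraspecial.commHom' h.comm_mem x).ker := by
    ext g
    rw [Cfsg.Agent.Transfer.Extraspecial.mem_ker_commHom', mem_centralizer_singleton_iff]
  have h2 : (Subgroup.centralizer ({x} : Set E)).relIndex A ≤ 2 := by
    rw [hker, Subgroup.relIndex_ker]
    have h1 := Subgroup.card_subgroup_dvd_card
      (A.map (Cfsg.Agent.Transfer.Extraspecial.commHom' h.comm_mem x))
    rw [h.card_commutator hab] at h1
    exact Nat.le_of_dvd (by norm_num) h1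
  have h3 := relIndex_mul_relIndex (⊥ : Subgroup E) _ _ bot_le
    (inf_le_left : A ⊓ Subgroup.centralizer ({x} : Set E) ≤ A)
  rw [relIndex_bot_left, relIndex_bot_left, inf_relIndex_left] at h3
  rw [← h3, mul_comm]
  exact Nat.mul_le_mul h2 le_rfl

/-- If `a` does not commute with `b`, `a ^ 2 = 1`, the rank of `E` is one more than that of `C(a, b)`. -/
theorem rank_step [Finite E] (h : CentralTwo E) {a b : E} (hab : ⁅a, b⁆ ≠ 1) (ha : a ^ 2 = 1)
    (k : ℕ) : PRankLE 2 (k + 1) E ↔ PRankLE 2 k (Subgroup.centralizer ({a, b} : Set E)) := by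
  have hne : a * b ≠ b * a := fun h0 => hab (commutatorElement_eq_one_iff_mul_comm.mpr h0)
  have hzab : ∀ x y : E, x * y ≠ y * x → ⁅x, y⁆ = ⁅a, b⁆ := by
    intro x y hxy
    exact h.eq_of_ne_one (h.comm_mem _ _) (h.comm_mem _ _)
      (fun h0 => hxy (commutatorElement_eq_one_iff_mul_comm.mp h0)) hab
  constructor
  · intro hE B hB hB2
    set B' : Subgroup E := B.map (Subgroup.centralizer ({a, b} : Set E)).subtype with hB'
    have hB'c : IsMulCommutative B' := by
      rw [hB']
      infer_instance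
    have hB'2 : ∀ x ∈ B', x ^ 2 = 1 := by
      rintro x ⟨y, hy, rfl⟩
      rw [← map_pow, hB2 y hy, map_one]
    have hcomm : ∀ x ∈ B', x * a = a * x := by
      rintro x ⟨y, hy, rfl⟩
      exact (mem_centralizer_iff.mp y.2 a (by simp)).symm
    have hel := Cfsg.Agent.PLocal.ZJ.isElementaryAbelian_sup_zpowers (e := 2) (A := B') (z := a)
      ⟨hB'c, hB'2⟩ ha hcomm
    have haB : a ∉ B' := by
      rintro ⟨y, hy, hya⟩
      have := mem_centralizer_iff.mp y.2 b (by simp)
      rw [show ((y : E)) = a from hya] at this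
      exact hne this.symm
    have h1 := two_mul_card_le haB
    have h2 := hE _ hel.1 hel.2
    have h3 : Nat.card B' = Nat.card B :=
      Nat.card_congr (B.equivMapOfInjective _ (Subgroup.subtype_injective _)).symm.toEquiv
    rw [h3] at h1
    have h4 := h1.trans h2
    rw [pow_succ] at h4
    omega
  · intro hC A hA hA2
    -- the elements of `A` commuting with `a`
    set A0 : Subgroup E := A ⊓ Subgroup.centralizer {a} with hA0
    have hA0A : A0 ≤ A := inf_le_left
    have hidx : Nat.card A ≤ 2 * Nat.card A0 := card_le_two_mul h hab A a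
    have hA0c : IsMulCommutative A0 :=
      ⟨⟨fun x y => Subtype.ext (comm_of hA (hA0A x.2) (hA0A y.2))⟩⟩
    have hel := Cfsg.Agent.PLocal.ZJ.isElementaryAbelian_sup_zpowers (e := 2) (A := A0) (z := a)
      ⟨hA0c, fun x hx => hA2 x (hA0A hx)⟩ ha
      (fun x hx => mem_centralizer_singleton_iff.mp (mem_inf.mp hx).2)
    set A1 : Subgroup E := A0 ⊔ zpowers a with hA1
    have h1 : Nat.card A ≤ Nat.card A1 := by
      by_cases haA : a ∈ A
      · have hle : A ≤ A0 := le_inf le_rfl (fun x hx => by
          rw [mem_centralizer_singleton_iff]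
          exact congrArg Subtype.val (hA.is_comm.comm ⟨x, hx⟩ ⟨a, haA⟩))
        exact Nat.le_of_dvd Nat.card_pos (card_dvd_of_le (hle.trans le_sup_left))
      · exact hidx.trans (two_mul_card_le (fun h0 => haA (hA0A h0)))
    have h2 := card_le_two_mul h hab A1 b
    set D : Subgroup E := A1 ⊓ Subgroup.centralizer ({b} : Set E) with hD
    have hDA : D ≤ A1 := inf_le_left
    have hDC : D ≤ Subgroup.centralizer ({a, b} : Set E) := by
      intro x hx
      rw [mem_centralizer_iff]
      intro y hy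
      rcases hy with rfl | hy
      · have hyA : y ∈ A1 := (le_sup_right : zpowers y ≤ A0 ⊔ zpowers y) (mem_zpowers y)
        exact congrArg Subtype.val (hel.1.is_comm.comm ⟨y, hyA⟩ ⟨x, hDA hx⟩)
      · rw [Set.mem_singleton_iff] at hy
        subst hy
        exact (mem_centralizer_singleton_iff.mp (mem_inf.mp hx).2).symm
    have h3 := hC (D.subgroupOf (Subgroup.centralizer ({a, b} : Set E)))
      ⟨⟨fun x y => Subtype.ext (Subtype.ext (comm_of hel.1 (hDA x.2) (hDA y.2)))⟩⟩
      (fun x hx => Subtype.ext (by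
        have := hel.2 x.1 (hDA hx)
        simpa using this))
    rw [Nat.card_congr (subgroupOfEquivOfLe hDC).toEquiv] at h3
    calc Nat.card A ≤ Nat.card A1 := h1
      _ ≤ 2 * Nat.card D := h2
      _ ≤ 2 * 2 ^ k := Nat.mul_le_mul le_rfl h3
      _ = 2 ^ (k + 1) := by ring

theorem not_pRankLE_zero [Finite E] (h : CentralTwo E) : ¬ PRankLE 2 0 E := by
  intro h0
  have := h0 (center E) inferInstance (fun a ha => h.sq_eq_one ha)
  rw [h.card_center] at this
  norm_num at this

theorem pRankLE_mono {k l : ℕ} (hkl : k ≤ l) (h : PRankLE 2 k E) : PRankLE 2 l E :=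
  fun A hA hA2 => (h A hA hA2).trans (Nat.pow_le_pow_right (by norm_num) hkl)

theorem rank_of_card_two [Finite E] (h : CentralTwo E) (hc : Nat.card E = 2) (k : ℕ) :
    PRankLE 2 k E ↔ 1 ≤ k := by
  constructor
  · intro hk
    by_contra hlt
    have : k = 0 := by omega
    subst this
    exact not_pRankLE_zero h hk
  · intro hk A _ _
    have h1 : Nat.card A ≤ 2 := hc ▸ Nat.le_of_dvd Nat.card_pos (card_subgroup_dvd_card A)
    exact h1.trans (by simpa using Nat.pow_le_pow_right (n := 2) (by norm_num) hk)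

theorem rank_of_step [Finite E] (h : CentralTwo E) {a b : E} (hab : ⁅a, b⁆ ≠ 1) (ha : a ^ 2 = 1)
    {m : ℕ} (hm : 1 ≤ m)
    (hr : ∀ k, PRankLE 2 k (Subgroup.centralizer ({a, b} : Set E)) ↔ m ≤ k) (k : ℕ) :
    PRankLE 2 k E ↔ m + 1 ≤ k := by
  cases k with
  | zero =>
    constructor
    · intro h0; exact absurd h0 (not_pRankLE_zero h)
    · intro h0; omega
  | succ k =>
    rw [rank_step h hab ha k, hr k]
    omega

/-- Without a non-commuting pair of involutions the rank is one. -/
theorem rank_one_of_not [Finite E] (h : CentralTwo E) (hn : ¬ HasInvPair E) (k : ℕ) :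
    PRankLE 2 k E ↔ 1 ≤ k := by
  constructor
  · intro hk
    by_contra hlt
    have : k = 0 := by omega
    subst this
    exact not_pRankLE_zero h hk
  · intro hk A hA hA2
    have hle : A ≤ center E := by
      intro a ha
      by_contra hac
      rw [mem_center_iff] at hac
      push Not at hac
      obtain ⟨b, hb⟩ := hac
      have hab : ⁅a, b⁆ ≠ 1 := fun h0 => hb (commutatorElement_eq_one_iff_mul_comm.mp h0).symm
      have hba : ⁅b, a⁆ ≠ 1 := fun h0 => hb (commutatorElement_eq_one_iff_mul_comm.mp h0)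
      by_cases hb2 : b ^ 2 = 1
      · exact hn ⟨a, b, hab, hA2 a ha, hb2⟩
      · refine hn ⟨a, a * b, ?_, hA2 a ha, ?_⟩
        · intro h0
          apply hab
          rw [commutatorElement_eq_one_iff_mul_comm] at h0 ⊢
          rw [mul_assoc a b a] at h0
          exact mul_left_cancel h0
        · rw [h.mul_sq, hA2 a ha, one_mul]
          rw [h.eq_of_ne_one (h.sq_mem b) (h.comm_mem b a) hb2 hba]
          rw [← sq]
          exact h.sq_eq_one (h.comm_mem b a)
    have h1 : Nat.card A ≤ 2 := h.card_center ▸ Nat.le_of_dvd Nat.card_pos (card_dvd_of_le hle)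
    exact h1.trans (by simpa using Nat.pow_le_pow_right (n := 2) (by norm_num) hk)

/-- The rank of a `CentralTwo` group of order `2 ^ (2 n + 1)` is `n` or `n + 1`. -/
theorem rank_cases : ∀ (n : ℕ) {E : Type*} [Group E] [Finite E], CentralTwo E →
    Nat.card E = 2 ^ (2 * n + 1) →
    (1 ≤ n ∧ ∀ k, PRankLE 2 k E ↔ n ≤ k) ∨ (∀ k, PRankLE 2 k E ↔ n + 1 ≤ k)
  | 0, E, _, _, h, hc => Or.inr (rank_of_card_two h (by simpa using hc))
  | 1, E, _, _, h, hc => by
    by_cases hi : HasInvPair E
    · right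
      obtain ⟨a, b, hab, ha, hb⟩ := hi
      have hcc := card_centralizer (n := 0) h hc hab
      exact rank_of_step h hab ha le_rfl
        (rank_of_card_two (h.centralizer hab) (by simpa using hcc))
    · left
      exact ⟨le_rfl, rank_one_of_not h hi⟩
  | n + 2, E, _, _, h, hc => by
    obtain ⟨a, b, hab, ha, hb⟩ := hasInvPair_of_card (n := n) h hc
    have hcc := card_centralizer (n := n + 1) h hc hab
    rcases rank_cases (n + 1) (h.centralizer hab) hcc with ⟨h1, h2⟩ | h2
    · left
      exact ⟨by omega, rank_of_step h hab ha h1 h2⟩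
    · right
      exact rank_of_step h hab ha (by omega) h2

/-- The isomorphism type is determined by order and rank. -/
theorem iso_of_rank : ∀ (n : ℕ) {E₁ E₂ : Type*} [Group E₁] [Group E₂] [Finite E₁] [Finite E₂],
    CentralTwo E₁ → CentralTwo E₂ → Nat.card E₁ = 2 ^ (2 * n + 1) →
    Nat.card E₂ = 2 ^ (2 * n + 1) → (∀ k, PRankLE 2 k E₁ ↔ PRankLE 2 k E₂) →
    Nonempty (E₁ ≃* E₂)
  | 0, E₁, E₂, _, _, _, _, h₁, h₂, hc₁, hc₂, hr =>
    iso_of_card_two (by simpa using hc₁) (by simpa using hc₂)
  | 1, E₁, E₂, _, _, _, _, h₁, h₂, hc₁, hc₂, hr => by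
    have key : ∀ {E : Type _} [Group E] [Finite E], CentralTwo E → Nat.card E = 2 ^ (2 * 1 + 1) →
        (HasInvPair E ↔ ¬ PRankLE 2 1 E) := by
      intro E _ _ h hc
      constructor
      · rintro ⟨a, b, hab, ha, hb⟩ h1
        have hcc := card_centralizer (n := 0) h hc hab
        have h3 := (rank_of_step h hab ha le_rfl
          (rank_of_card_two (h.centralizer hab) (by simpa using hcc)) 1).mp h1
        omega
      · intro h1
        by_contra h2
        exact h1 ((rank_one_of_not h h2 1).mpr le_rfl)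
    have key' : ∀ {E : Type _} [Group E] [Finite E], CentralTwo E → Nat.card E = 2 ^ (2 * 1 + 1) →
        (HasInvPair E ↔ ¬ PRankLE 2 1 E) := by
      intro E _ _ h hc
      constructor
      · rintro ⟨a, b, hab, ha, hb⟩ h1
        have hcc := card_centralizer (n := 0) h hc hab
        have h3 := (rank_of_step h hab ha le_rfl
          (rank_of_card_two (h.centralizer hab) (by simpa using hcc)) 1).mp h1
        omega
      · intro h1
        by_contra h2
        exact h1 ((rank_one_of_not h h2 1).mpr le_rfl)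
    exact iso_of_card_eight h₁ h₂ hc₁ hc₂ (by rw [key h₁ hc₁, key' h₂ hc₂, hr 1])
  | n + 2, E₁, E₂, _, _, _, _, h₁, h₂, hc₁, hc₂, hr => by
    obtain ⟨a₁, b₁, hab₁, ha₁, hb₁⟩ := hasInvPair_of_card (n := n) h₁ hc₁
    obtain ⟨a₂, b₂, hab₂, ha₂, hb₂⟩ := hasInvPair_of_card (n := n) h₂ hc₂
    have hcc₁ := card_centralizer (n := n + 1) h₁ hc₁ hab₁
    have hcc₂ := card_centralizer (n := n + 1) h₂ hc₂ hab₂
    obtain ⟨ψ⟩ := iso_of_rank (n + 1) (h₁.centralizer hab₁) (h₂.centralizer hab₂) hcc₁ hcc₂
      (fun k => by rw [← rank_step h₁ hab₁ ha₁, ← rank_step h₂ hab₂ ha₂, hr])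
    exact iso_of_pairs h₁ h₂ hab₁ hab₂ (by simp [ha₁, ha₂]) (by simp [hb₁, hb₂]) ψ

end Cfsg.Agent.H442.ExtraRank
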